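-- Team project BRA (S4484): package [B3] (helper11).
import Mathlib
import Cfsg.Agent.Lib.Helper95.BRA.Defs

/-!
# BRA [B3]: the trace inequality `tr (P Q) ≤ tr (Q (A Q Aᴴ))` with its equality case
-/

set_option autoImplicit false

open scoped Matrix ComplexConjugate

namespace Cfsg.Agent.Lib.Helper11.BRA

open Cfsg.Agent.Lib.Helper95.BRA

theorem nsq_nonneg' {n : ℕ} (w : Fin n → ℂ) : 0 ≤ nsq w :=
  Finset.sum_nonneg fun i _ => Complex.normSq_nonneg (w i)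

theorem nsq_eq_zero' {n : ℕ} (w : Fin n → ℂ) (h : nsq w = 0) : w = 0 := by
  unfold nsq at h
  have h1 := (Finset.sum_eq_zero_iff_of_nonneg fun i _ => Complex.normSq_nonneg (w i)).mp h
  funext i
  exact Complex.normSq_eq_zero.mp (h1 i (Finset.mem_univ i))

/-- `⟨w, w⟩ = ‖w‖²` -/
theorem star_dot_self {n : ℕ} (w : Fin n → ℂ) : star w ⬝ᵥ w = ((nsq w : ℝ) : ℂ) := by
  unfold nsq dotProduct
  rw [Complex.ofReal_sum]
  refine Finset.sum_congr rfl fun i _ => ?_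
  rw [Complex.normSq_eq_conj_mul_self]
  rfl

/-- Cauchy–Schwarz -/
theorem cs_nsq {n : ℕ} (u v : Fin n → ℂ) :
    Complex.normSq (star u ⬝ᵥ v) ≤ nsq u * nsq v := by
  have h1 : ‖star u ⬝ᵥ v‖ ≤ ∑ i, ‖u i‖ * ‖v i‖ := by
    unfold dotProduct
    refine (norm_sum_le _ _).trans (le_of_eq ?_)
    refine Finset.sum_congr rfl fun i _ => ?_
    rw [norm_mul, Pi.star_apply, norm_star]
  have h2 : (∑ i, ‖u i‖ * ‖v i‖) ^ 2 ≤ (∑ i, ‖u i‖ ^ 2) * ∑ i, ‖v i‖ ^ 2 :=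
    Finset.sum_mul_sq_le_sq_mul_sq Finset.univ _ _
  have h3 : nsq u = ∑ i, ‖u i‖ ^ 2 := by
    unfold nsq
    exact Finset.sum_congr rfl fun i _ => Complex.normSq_eq_norm_sq (u i)
  have h4 : nsq v = ∑ i, ‖v i‖ ^ 2 := by
    unfold nsq
    exact Finset.sum_congr rfl fun i _ => Complex.normSq_eq_norm_sq (v i)
  rw [Complex.normSq_eq_norm_sq, h3, h4]
  refine le_trans ?_ h2
  exact pow_le_pow_left₀ (norm_nonneg _) h1 2

/-- unitary matrices preserve the norm -/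
theorem nsq_unitary {n : ℕ} (A : Matrix (Fin n) (Fin n) ℂ) (hA : Aᴴ * A = 1) (w : Fin n → ℂ) :
    nsq (A *ᵥ w) = nsq w := by
  have h : star (A *ᵥ w) ⬝ᵥ (A *ᵥ w) = star w ⬝ᵥ w := by
    rw [Matrix.star_mulVec, ← Matrix.dotProduct_mulVec, Matrix.mulVec_mulVec, hA,
      Matrix.one_mulVec]
  rw [star_dot_self, star_dot_self] at h
  exact_mod_cast h

/-- the sum of the squared norms of the columns is the trace of `Mᴴ M` -/
theorem sum_nsq_col {n : ℕ} (M : Matrix (Fin n) (Fin n) ℂ) :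
    ∑ i, nsq (M *ᵥ Pi.single i 1) = (Mᴴ * M).trace.re := by
  unfold nsq Matrix.trace
  rw [Complex.re_sum]
  refine Finset.sum_congr rfl fun i _ => ?_
  rw [Matrix.diag_apply, Matrix.mul_apply, Complex.re_sum]
  refine Finset.sum_congr rfl fun k _ => ?_
  rw [Matrix.conjTranspose_apply, Matrix.mulVec_single_one]
  have : star (M k i) * M k i = ((Complex.normSq (M k i) : ℝ) : ℂ) := by
    rw [Complex.normSq_eq_conj_mul_self]
    rfl
  rw [this, Complex.ofReal_re]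
  rfl

/-- [B3] -/
theorem pkgB3 : PkgB3 := by
  intro n A P Q hA hPh hPP hQh hQQ hineq heq
  obtain ⟨Q', hQ'⟩ : ∃ Q' : Matrix (Fin n) (Fin n) ℂ, Q' = A * Q * Aᴴ := ⟨_, rfl⟩
  rw [← hQ']
  have hQ'Q' : Q' * Q' = Q' := by
    rw [hQ']
    calc A * Q * Aᴴ * (A * Q * Aᴴ) = A * Q * (Aᴴ * A) * Q * Aᴴ := by
          simp only [Matrix.mul_assoc]
      _ = A * Q * Aᴴ := by rw [hA, Matrix.mul_one, Matrix.mul_assoc A Q Q, hQQ]
  have hQ'h : Q'ᴴ = Q' := by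
    rw [hQ', Matrix.conjTranspose_mul, Matrix.conjTranspose_mul, Matrix.conjTranspose_conjTranspose,
      hQh, Matrix.mul_assoc]
  have hQ'A : Q' * A = A * Q := by
    rw [hQ', Matrix.mul_assoc, hA, Matrix.mul_one]
  -- the columns of `Q`
  have hkey : ∀ w : Fin n → ℂ, Q *ᵥ w = w →
      Complex.normSq (star w ⬝ᵥ (A *ᵥ w)) ≤ nsq (Q' *ᵥ w) * nsq w := by
    intro w hw
    have e1 : Q' *ᵥ (A *ᵥ w) = A *ᵥ w := by
      rw [Matrix.mulVec_mulVec, hQ'A, ← Matrix.mulVec_mulVec, hw]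
    have e2 : star w ⬝ᵥ (A *ᵥ w) = star (Q' *ᵥ w) ⬝ᵥ (A *ᵥ w) := by
      nth_rewrite 1 [← e1]
      rw [Matrix.dotProduct_mulVec, Matrix.star_mulVec, hQ'h]
    rw [e2]
    have := cs_nsq (Q' *ᵥ w) (A *ᵥ w)
    rw [nsq_unitary A hA] at this
    exact this
  have hcol : ∀ i : Fin n, Q *ᵥ (Q *ᵥ Pi.single i 1) = Q *ᵥ Pi.single i 1 := by
    intro i
    rw [Matrix.mulVec_mulVec, hQQ]
  have hterm : ∀ i : Fin n, nsq ((P * Q) *ᵥ Pi.single i 1) ≤ nsq ((Q' * Q) *ᵥ Pi.single i 1) := by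
    intro i
    rw [← Matrix.mulVec_mulVec, ← Matrix.mulVec_mulVec]
    obtain ⟨w, hw⟩ : ∃ w : Fin n → ℂ, w = Q *ᵥ Pi.single i 1 := ⟨_, rfl⟩
    rw [← hw]
    have h1 := hineq w
    have h2 := hkey w (by rw [hw]; exact hcol i)
    have h3 : 0 ≤ nsq w := nsq_nonneg' w
    rcases h3.lt_or_eq with hpos | hzero
    · exact le_of_mul_le_mul_right (h1.trans h2) hpos
    · have hw0 : w = 0 := nsq_eq_zero' w hzero.symm
      rw [hw0, Matrix.mulVec_zero, Matrix.mulVec_zero]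
  have hsum1 : ∑ i, nsq ((P * Q) *ᵥ Pi.single i 1) = (P * Q).trace.re := by
    rw [sum_nsq_col]
    have : (P * Q)ᴴ * (P * Q) = Q * (P * Q) := by
      rw [Matrix.conjTranspose_mul, hPh, hQh, Matrix.mul_assoc, ← Matrix.mul_assoc P P Q, hPP]
    rw [this, Matrix.trace_mul_comm, Matrix.mul_assoc, hQQ]
  have hsum2 : ∑ i, nsq ((Q' * Q) *ᵥ Pi.single i 1) = (Q * Q').trace.re := by
    rw [sum_nsq_col]
    have : (Q' * Q)ᴴ * (Q' * Q) = Q * (Q' * Q) := by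
      rw [Matrix.conjTranspose_mul, hQ'h, hQh, Matrix.mul_assoc, ← Matrix.mul_assoc Q' Q' Q,
        hQ'Q']
    rw [this, Matrix.trace_mul_comm, Matrix.mul_assoc, hQQ, Matrix.trace_mul_comm]
  refine ⟨?_, ?_⟩
  · rw [← hsum1, ← hsum2]
    exact Finset.sum_le_sum fun i _ => hterm i
  · intro hE
    rw [← hsum1, ← hsum2] at hE
    have hall := (Finset.sum_eq_sum_iff_of_le fun i _ => hterm i).mp hE
    ext k i
    have hi := hall i (Finset.mem_univ i)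
    rw [← Matrix.mulVec_mulVec, ← Matrix.mulVec_mulVec] at hi
    obtain ⟨w, hw⟩ : ∃ w : Fin n → ℂ, w = Q *ᵥ Pi.single i 1 := ⟨_, rfl⟩
    rw [← hw] at hi
    have h1 := hineq w
    have h2 := hkey w (by rw [hw]; exact hcol i)
    rw [← hi] at h2
    have h3 := heq w (le_antisymm h1 h2)
    have h4 := congrFun h3 k
    rw [hw, Matrix.mulVec_mulVec, Matrix.mulVec_single_one, Matrix.mulVec_single_one] at h4
    exact h4

end Cfsg.Agent.Lib.Helper11.BRA
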